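import Groth.Agent.ConeLib.Glue
import Groth.Prelude.Def_Cone
import Mathlib.RingTheory.GradedAlgebra.Homogeneous.Ideal
import Mathlib.AlgebraicGeometry.Morphisms.Affine

/-!
# The retraction of the pointed affine cone
-/

set_option autoImplicit false
set_option maxHeartbeats 800000
universe u
open CategoryTheory CategoryTheory.Limits AlgebraicGeometry TopologicalSpace

set_option backward.isDefEq.respectTransparency false

namespace Groth.Agent.ConeLib

variable {R A : Type u} [CommRing R] [CommRing A] [Algebra R A] (𝒜 : ℕ → Submodule R A) [GradedAlgebra 𝒜]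

/-- Homogeneous elements of positive degree. -/
structure Idx (𝒜 : ℕ → Submodule R A) : Type u where
  d : ℕ
  f : A
  hd : 0 < d
  hf : f ∈ 𝒜 d

variable {𝒜}

theorem chart_ι {d : ℕ} {f : A} (hd : 0 < d) (hf : f ∈ 𝒜 d) :
    Cone.chart hf hd ≫ (Cone.pointed 𝒜).ι = Spec.map (CommRingCat.ofHom (algebraMap A (Localization.Away f))) :=
  IsOpenImmersion.lift_fac _ _ _

instance isOpenImmersion_chart {d : ℕ} {f : A} (hd : 0 < d) (hf : f ∈ 𝒜 d) : IsOpenImmersion (Cone.chart hf hd) := by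
  have : IsOpenImmersion (Spec.map (CommRingCat.ofHom (algebraMap A (Localization.Away f)))) :=
    IsOpenImmersion.of_isLocalization f
  have : IsOpenImmersion (Cone.chart hf hd ≫ (Cone.pointed 𝒜).ι) := by
    rw [chart_ι]; infer_instance
  exact IsOpenImmersion.of_comp _ (Cone.pointed 𝒜).ι

theorem mem_range_chart {d : ℕ} {f : A} (hd : 0 < d) (hf : f ∈ 𝒜 d) (x : (Cone.pointed 𝒜 : Scheme.{u})) :
    x ∈ Set.range (Cone.chart hf hd) ↔ f ∉ x.1.asIdeal := by
  constructor
  · rintro ⟨y, rfl⟩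
    have h : (Cone.chart hf hd ≫ (Cone.pointed 𝒜).ι) y ∈ PrimeSpectrum.basicOpen f := by
      rw [chart_ι]
      show PrimeSpectrum.comap _ y ∈ (PrimeSpectrum.basicOpen f : Set (PrimeSpectrum A))
      rw [← PrimeSpectrum.localization_away_comap_range (Localization.Away f) f]
      exact ⟨y, rfl⟩
    exact h
  · intro h
    have h' : x.1 ∈ (PrimeSpectrum.basicOpen f : Set (PrimeSpectrum A)) := h
    rw [← PrimeSpectrum.localization_away_comap_range (Localization.Away f) f] at h'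
    obtain ⟨y, hy⟩ := h'
    refine ⟨y, (Cone.pointed 𝒜).ι.isOpenEmbedding.injective ?_⟩
    show (Cone.chart hf hd ≫ (Cone.pointed 𝒜).ι) y = x.1
    rw [chart_ι]
    exact hy

theorem exists_idx_notMem {I : Ideal A} (h : ¬(HomogeneousIdeal.irrelevant 𝒜).toIdeal ≤ I) :
    ∃ (d : ℕ) (f : A), 0 < d ∧ f ∈ 𝒜 d ∧ f ∉ I := by
  by_contra hc
  push Not at hc
  exact h ((HomogeneousIdeal.toIdeal_irrelevant_le 𝒜).mpr fun i hi y hy => hc i y hi hy)

theorem exists_chart (x : (Cone.pointed 𝒜 : Scheme.{u})) : ∃ i : Idx 𝒜, x ∈ Set.range (Cone.chart i.hf i.hd) := by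
  obtain ⟨d, f, hd, hf, hfx⟩ := exists_idx_notMem (𝒜 := 𝒜) (I := x.1.asIdeal) fun hle => x.2 hle
  exact ⟨⟨d, f, hd, hf⟩, (mem_range_chart hd hf x).mpr hfx⟩

/-- Inverting `f` maps to inverting a multiple of `f`. -/
noncomputable def toMul (f g x : A) (hx : x = f * g) : Localization.Away f →+* Localization.Away x :=
  IsLocalization.Away.lift f (g := algebraMap A (Localization.Away x))
    (isUnit_of_dvd_unit (map_dvd _ ⟨g, hx⟩) (IsLocalization.Away.algebraMap_isUnit x))

theorem toMul_algebraMap (f g x : A) (hx : x = f * g) :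
    (toMul f g x hx).comp (algebraMap A (Localization.Away f)) = algebraMap A (Localization.Away x) :=
  RingHom.ext fun a => IsLocalization.Away.lift_eq _
    (isUnit_of_dvd_unit (map_dvd _ ⟨g, hx⟩) (IsLocalization.Away.algebraMap_isUnit x)) a

theorem toMul_val {d e : ℕ} (f g x : A) (hf : f ∈ 𝒜 d) (hg : g ∈ 𝒜 e) (hx : x = f * g) :
    (toMul f g x hx).comp (algebraMap (HomogeneousLocalization.Away 𝒜 f) (Localization.Away f)) =
      (algebraMap (HomogeneousLocalization.Away 𝒜 x) (Localization.Away x)).comp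
        (HomogeneousLocalization.awayMap 𝒜 hg hx) := by
  refine RingHom.ext fun z => ?_
  obtain ⟨n, a, ha, rfl⟩ := z.mk_surjective 𝒜 hf
  simp only [RingHom.comp_apply, HomogeneousLocalization.algebraMap_apply]
  rw [HomogeneousLocalization.awayMap_mk, HomogeneousLocalization.Away.val_mk,
    HomogeneousLocalization.Away.val_mk, Localization.mk_eq_mk', Localization.mk_eq_mk',
    IsLocalization.eq_mk'_iff_mul_eq]
  have hl : ∀ c : A, toMul f g x hx (algebraMap A (Localization.Away f) c) = algebraMap A (Localization.Away x) c :=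
    fun c => RingHom.congr_fun (toMul_algebraMap f g x hx) c
  have h2 : algebraMap A (Localization.Away x) (x ^ n) = algebraMap A _ (f ^ n) * algebraMap A _ (g ^ n) := by
    rw [← map_mul, ← mul_pow, ← hx]
  change _ * algebraMap A (Localization.Away x) (x ^ n) = _
  rw [h2, ← mul_assoc, ← hl (f ^ n), ← map_mul]
  erw [IsLocalization.mk'_spec]
  rw [hl, map_mul]

/-- The retraction `E ⟶ Proj A`. -/
theorem existsUnique_retraction :
    ∃! π : (Cone.pointed 𝒜 : Scheme.{u}) ⟶ Proj 𝒜,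
      ∀ (d : ℕ) (f : A) (hd : 0 < d) (hf : f ∈ 𝒜 d),
        Cone.chart hf hd ≫ π =
          Spec.map (CommRingCat.ofHom (algebraMap (HomogeneousLocalization.Away 𝒜 f) (Localization.Away f))) ≫
            Proj.awayι 𝒜 f hf hd := by
  let a : ∀ i j : Idx 𝒜, Spec (CommRingCat.of (Localization.Away (i.f * j.f))) ⟶
      Spec (CommRingCat.of (Localization.Away i.f)) := fun i j =>
    Spec.map (CommRingCat.ofHom (toMul i.f j.f (i.f * j.f) rfl))
  let b : ∀ i j : Idx 𝒜, Spec (CommRingCat.of (Localization.Away (i.f * j.f))) ⟶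
      Spec (CommRingCat.of (Localization.Away j.f)) := fun i j =>
    Spec.map (CommRingCat.ofHom (toMul j.f i.f (i.f * j.f) (mul_comm _ _)))
  have hfull : ∀ i j : Idx 𝒜, a i j ≫ Cone.chart i.hf i.hd =
      Cone.chart (SetLike.mul_mem_graded i.hf j.hf) (Nat.add_pos_left i.hd _) := fun i j => by
    rw [← cancel_mono (Cone.pointed 𝒜).ι, Category.assoc, chart_ι, chart_ι, ← Spec.map_comp, ← CommRingCat.ofHom_comp,
      toMul_algebraMap]
  have hfullb : ∀ i j : Idx 𝒜, b i j ≫ Cone.chart j.hf j.hd =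
      Cone.chart (SetLike.mul_mem_graded i.hf j.hf) (Nat.add_pos_left i.hd _) := fun i j => by
    rw [← cancel_mono (Cone.pointed 𝒜).ι, Category.assoc, chart_ι, chart_ι, ← Spec.map_comp, ← CommRingCat.ofHom_comp,
      toMul_algebraMap]
  have : ∀ i j : Idx 𝒜, IsOpenImmersion (a i j ≫ Cone.chart i.hf i.hd) := fun i j => by
    rw [hfull]; infer_instance
  obtain ⟨p, hp, hu⟩ := existsUnique_of_charts (fun i : Idx 𝒜 => Spec (CommRingCat.of (Localization.Away i.f)))
    (fun i => Cone.chart i.hf i.hd) exists_chart _ a b (fun i j => (hfull i j).trans (hfullb i j).symm)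
    (fun i j x hx => by
      rw [hfull, mem_range_chart]
      exact fun h => (x.1.isPrime.mem_or_mem h).elim ((mem_range_chart i.hd i.hf x).mp hx.1)
        ((mem_range_chart j.hd j.hf x).mp hx.2))
    (fun i => Spec.map (CommRingCat.ofHom (algebraMap (HomogeneousLocalization.Away 𝒜 i.f) (Localization.Away i.f))) ≫
      Proj.awayι 𝒜 i.f i.hf i.hd)
    (fun i j => by
      simp only [a, b]
      rw [← Spec.map_comp_assoc, ← Spec.map_comp_assoc, ← CommRingCat.ofHom_comp, ← CommRingCat.ofHom_comp,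
        toMul_val _ _ _ i.hf j.hf rfl, toMul_val _ _ _ j.hf i.hf (mul_comm _ _), CommRingCat.ofHom_comp,
        CommRingCat.ofHom_comp, Spec.map_comp_assoc, Spec.map_comp_assoc,
        Proj.SpecMap_awayMap_awayι, Proj.SpecMap_awayMap_awayι]
      rfl)
  exact ⟨p, fun d f hd hf => hp ⟨d, f, hd, hf⟩, fun q hq => hu q fun i => hq i.d i.f i.hd i.hf⟩

section

variable {π : (Cone.pointed 𝒜 : Scheme.{u}) ⟶ Proj 𝒜}
  (hπ : ∀ (d : ℕ) (f : A) (hd : 0 < d) (hf : f ∈ 𝒜 d),
    Cone.chart hf hd ≫ π =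
      Spec.map (CommRingCat.ofHom (algebraMap (HomogeneousLocalization.Away 𝒜 f) (Localization.Away f))) ≫
        Proj.awayι 𝒜 f hf hd)

include hπ in
theorem preimage_basicOpen {d : ℕ} {f : A} (hd : 0 < d) (hf : f ∈ 𝒜 d) (x : (Cone.pointed 𝒜 : Scheme.{u})) :
    π x ∈ Proj.basicOpen 𝒜 f ↔ f ∉ x.1.asIdeal := by
  obtain ⟨⟨e, g, he, hg⟩, y, rfl⟩ := exists_chart x
  have h1 : π (Cone.chart hg he y) = (Proj.awayι 𝒜 g hg he)
      (Spec.map (CommRingCat.ofHom (algebraMap (HomogeneousLocalization.Away 𝒜 g) (Localization.Away g))) y) := by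
    show (Cone.chart hg he ≫ π) y = _
    rw [hπ e g he hg]
    rfl
  have h2 : (Cone.chart hg he y).1 = PrimeSpectrum.comap (algebraMap A (Localization.Away g)) y := by
    show (Cone.chart hg he ≫ (Cone.pointed 𝒜).ι) y = _
    rw [chart_ι]
    rfl
  rw [h1, h2]
  show _ ∈ Proj.awayι 𝒜 g hg he ⁻¹ᵁ Proj.basicOpen 𝒜 f ↔ algebraMap A (Localization.Away g) f ∉ y.asIdeal
  rw [Proj.awayι_preimage_basicOpen 𝒜 hg he hf hd]
  show algebraMap (HomogeneousLocalization.Away 𝒜 g) (Localization.Away g)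
    (HomogeneousLocalization.Away.isLocalizationElem hg hf) ∉ y.asIdeal ↔ _
  rw [HomogeneousLocalization.algebraMap_apply, HomogeneousLocalization.Away.val_mk, Localization.mk_eq_mk']
  have hu : algebraMap A (Localization.Away g) (g ^ d) ∉ y.asIdeal := fun h =>
    y.isPrime.ne_top (y.asIdeal.eq_top_of_isUnit_mem h (by
      rw [map_pow]; exact (IsLocalization.Away.algebraMap_isUnit g).pow d))
  refine not_congr ?_
  refine Iff.trans ?_ (y.isPrime.pow_mem_iff_mem e he)
  rw [← map_pow, ← IsLocalization.mk'_spec (Localization.Away g) (f ^ e) (⟨g ^ d, d, rfl⟩ : Submonoid.powers g)]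
  exact ⟨fun h => y.asIdeal.mul_mem_right _ h, fun h => (y.isPrime.mem_or_mem h).resolve_right hu⟩

include hπ in
theorem asHomogeneousIdeal_eq (p : (Cone.pointed 𝒜 : Scheme.{u})) :
    (π.base p).asHomogeneousIdeal = (((Cone.pointed 𝒜).ι.base p).asIdeal).homogeneousCore 𝒜 := by
  classical
  have key : ∀ (i : ℕ) (a : A), a ∈ 𝒜 i → (a ∈ (π p).asHomogeneousIdeal ↔ a ∈ p.1.asIdeal) := by
    intro i a ha
    obtain ⟨d, g, hd, hg, hgp⟩ := exists_idx_notMem (𝒜 := 𝒜) (I := p.1.asIdeal) fun hle => p.2 hle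
    have hgπ : g ∉ (π p).asHomogeneousIdeal :=
      (Proj.mem_basicOpen 𝒜 g (π p)).mp ((preimage_basicOpen hπ hd hg p).mpr hgp)
    rcases Nat.eq_zero_or_pos i with rfl | hi
    · have h := not_iff_not.mp ((Proj.mem_basicOpen 𝒜 (a * g) (π p)).symm.trans
        (preimage_basicOpen hπ (Nat.add_pos_right _ hd) (SetLike.mul_mem_graded ha hg) p))
      refine ⟨fun h' => (p.1.isPrime.mem_or_mem (h.mp (Ideal.mul_mem_right _ _ h'))).resolve_right hgp,
        fun h' => ((π p).isPrime.mem_or_mem (h.mpr (Ideal.mul_mem_right _ _ h'))).resolve_right hgπ⟩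
    · exact not_iff_not.mp ((Proj.mem_basicOpen 𝒜 a (π p)).symm.trans (preimage_basicOpen hπ hi ha p))
  refine HomogeneousIdeal.ext (Ideal.ext fun a => ?_)
  show a ∈ (π p).asHomogeneousIdeal.toIdeal ↔ a ∈ (p.1.asIdeal.homogeneousCore 𝒜).toIdeal
  constructor <;> intro ha <;> rw [← DirectSum.sum_support_decompose 𝒜 a] <;> refine Ideal.sum_mem _ fun i _ => ?_
  · exact Ideal.mem_homogeneousCore_of_homogeneous_of_mem ⟨i, SetLike.coe_mem _⟩
      ((key i _ (SetLike.coe_mem _)).mp ((π p).asHomogeneousIdeal.isHomogeneous i ha))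
  · exact (key i _ (SetLike.coe_mem _)).mpr (Ideal.toIdeal_homogeneousCore_le 𝒜 _
      ((p.1.asIdeal.homogeneousCore 𝒜).isHomogeneous i ha))

include hπ in
theorem preimage_basicOpen_eq {d : ℕ} {f : A} (hd : 0 < d) (hf : f ∈ 𝒜 d) :
    π ⁻¹ᵁ Proj.basicOpen 𝒜 f = (Cone.pointed 𝒜).ι ⁻¹ᵁ Cone.coneOpen f :=
  Opens.ext (Set.ext fun x => preimage_basicOpen hπ hd hf x)

include hπ in
theorem isAffineHom : IsAffineHom π := by
  refine isAffineHom_of_forall_exists_isAffineOpen π fun y => ?_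
  obtain ⟨d, f, hd, hf, hfy⟩ := exists_idx_notMem (𝒜 := 𝒜) (I := y.asHomogeneousIdeal.toIdeal) y.not_irrelevant_le
  refine ⟨_, hfy, Proj.isAffineOpen_basicOpen 𝒜 f hf hd, ?_⟩
  rw [preimage_basicOpen_eq hπ hd hf]
  refine (IsAffineOpen.Spec_basicOpen (R := CommRingCat.of A) f).preimage_of_isOpenImmersion (Cone.pointed 𝒜).ι ?_
  rw [Scheme.Opens.opensRange_ι]
  intro x hx hx'
  exact hx (hx' (HomogeneousIdeal.mem_irrelevant_of_mem 𝒜 hd hf))

include hπ in
theorem surjective : Surjective π := ⟨fun y => by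
  refine ⟨⟨⟨y.asHomogeneousIdeal.toIdeal, y.isPrime⟩, fun h => y.not_irrelevant_le h⟩, ProjectiveSpectrum.ext ?_⟩
  refine (asHomogeneousIdeal_eq hπ _).trans (HomogeneousIdeal.ext ?_)
  exact y.asHomogeneousIdeal.isHomogeneous.toIdeal_homogeneousCore_eq_self⟩

end

end Groth.Agent.ConeLib
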