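import Mathlib.RingTheory.GradedAlgebra.HomogeneousLocalization
import Mathlib.Algebra.Polynomial.Laurent
import Mathlib.Algebra.DirectSum.Ring

/-!
# Inverting an element of degree one
-/

set_option autoImplicit false
set_option maxHeartbeats 800000
universe u
open HomogeneousLocalization

set_option backward.isDefEq.respectTransparency false

namespace Groth.Agent.ConeLib

variable {R A : Type u} [CommRing R] [CommRing A] [Algebra R A] (𝒜 : ℕ → Submodule R A) [GradedAlgebra 𝒜]
  {f : A} (hf : f ∈ 𝒜 1)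

/-- `a ↦ a / f^i` on the degree `i` part. -/
noncomputable def frac (i : ℕ) : 𝒜 i →+ Away 𝒜 f where
  toFun a := Away.mk 𝒜 hf i a.1 (by simpa using a.2)
  map_zero' := val_injective _ (by simp [Away.val_mk, Localization.mk_eq_mk'])
  map_add' a b := val_injective _ (by simp [Away.val_mk, Localization.mk_eq_mk', IsLocalization.mk'_add, map_add,
    ← Localization.add_mk_self])

theorem mk_eq_frac (i : ℕ) (a : A) (ha : a ∈ 𝒜 (i • 1)) :
    Away.mk 𝒜 hf i a ha = frac 𝒜 hf i ⟨a, by simpa using ha⟩ := rfl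

theorem frac_one : frac 𝒜 hf 0 (GradedMonoid.GOne.one (A := fun i => ↥(𝒜 i))) = 1 :=
  val_injective _ (by
    rw [val_one]
    show Localization.mk (1 : A) _ = _
    simp only [pow_zero]
    exact Localization.mk_one)

theorem frac_mul {i j : ℕ} (a : 𝒜 i) (b : 𝒜 j) :
    frac 𝒜 hf (i + j) (GradedMonoid.GMul.mul (A := fun i => ↥(𝒜 i)) a b) = frac 𝒜 hf i a * frac 𝒜 hf j b :=
  val_injective _ (by
    rw [val_mul]
    show Localization.mk (a.1 * b.1) _ = Localization.mk a.1 _ * Localization.mk b.1 _
    rw [Localization.mk_mul]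
    congr 1
    exact Subtype.ext (pow_add f i j))

theorem frac_self : frac 𝒜 hf 1 ⟨f, hf⟩ = 1 :=
  val_injective _ (by
    rw [val_one]
    show Localization.mk f _ = _
    rw [Localization.mk_eq_mk']
    exact (IsLocalization.mk'_eq_iff_eq_mul.mpr (by simp)))

variable {S : Type u} [CommRing S] (ι : Away 𝒜 f →+* S) (v : S)

/-- The ring map `a ↦ ∑ ι (a_i / f^i) v^i`. -/
noncomputable def evalFrac : A →+* S :=
  (DirectSum.toSemiring (A := fun i => 𝒜 i)
      (fun i => (AddMonoidHom.mulRight (v ^ i)).comp (ι.toAddMonoidHom.comp (frac 𝒜 hf i)))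
      (by
        show ι (frac 𝒜 hf 0 (GradedMonoid.GOne.one (A := fun i => ↥(𝒜 i)))) * v ^ 0 = 1
        rw [frac_one, map_one, pow_zero, one_mul])
      (fun {i j} a b => by
        show ι (frac 𝒜 hf (i + j) (GradedMonoid.GMul.mul (A := fun i => ↥(𝒜 i)) a b)) * v ^ (i + j) =
          (ι (frac 𝒜 hf i a) * v ^ i) * (ι (frac 𝒜 hf j b) * v ^ j)
        rw [frac_mul, map_mul, pow_add]
        ring)).comp
    (DirectSum.decomposeRingEquiv 𝒜).toRingHom

theorem evalFrac_of_mem {i : ℕ} {a : A} (ha : a ∈ 𝒜 i) :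
    evalFrac 𝒜 hf ι v a = ι (Away.mk 𝒜 hf i a (by simpa using ha)) * v ^ i := by
  rw [evalFrac, RingHom.comp_apply]
  refine (congrArg _ (DirectSum.decompose_of_mem 𝒜 ha : DirectSum.decompose 𝒜 a = _)).trans ?_
  refine (DirectSum.toSemiring_of _ _ _ _ _).trans ?_
  rfl

theorem evalFrac_self : evalFrac 𝒜 hf ι v f = v := by
  rw [evalFrac_of_mem 𝒜 hf ι v hf, pow_one, mk_eq_frac]
  rw [frac_self, map_one, one_mul]

theorem algebraMap_mk_mul_pow (n : ℕ) (a : A) (ha : a ∈ 𝒜 (n • 1)) :
    algebraMap (Away 𝒜 f) (Localization.Away f) (Away.mk 𝒜 hf n a ha) * algebraMap A _ f ^ n =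
      algebraMap A (Localization.Away f) a := by
  rw [HomogeneousLocalization.algebraMap_apply, Away.val_mk, Localization.mk_eq_mk', ← map_pow]
  exact IsLocalization.mk'_spec (Localization.Away f) a (⟨f ^ n, n, rfl⟩ : Submonoid.powers f)

include hf in
/-- `A_f` is the Laurent polynomial ring over `A_(f)`. -/
theorem exists_laurent_equiv :
    ∃ e : LaurentPolynomial (Away 𝒜 f) ≃+* Localization.Away f,
      e.toRingHom.comp LaurentPolynomial.C = algebraMap (Away 𝒜 f) (Localization.Away f) := by
  let γ₀ := evalFrac 𝒜 hf (LaurentPolynomial.C : Away 𝒜 f →+* LaurentPolynomial (Away 𝒜 f)) (LaurentPolynomial.T 1)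
  have hu : IsUnit (γ₀ f) := by
    rw [evalFrac_self]; exact LaurentPolynomial.isUnit_T 1
  let γ : Localization.Away f →+* LaurentPolynomial (Away 𝒜 f) := IsLocalization.Away.lift f hu
  let uf := (IsLocalization.Away.algebraMap_isUnit (S := Localization.Away f) f).unit
  let β : LaurentPolynomial (Away 𝒜 f) →+* Localization.Away f :=
    LaurentPolynomial.eval₂ (algebraMap _ _) uf
  have hβC : ∀ c, β (LaurentPolynomial.C c) = algebraMap _ _ c := fun c => LaurentPolynomial.eval₂_C _ _ c
  have hγ : ∀ a, γ (algebraMap A _ a) = γ₀ a := fun a => IsLocalization.Away.lift_eq f hu a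
  have hβT : β (LaurentPolynomial.T 1) = algebraMap A _ f := by simp [β, uf]
  have h1 : β.comp γ = RingHom.id _ := by
    refine IsLocalization.ringHom_ext (Submonoid.powers f) (RingHom.ext fun a => ?_)
    simp only [RingHom.comp_apply, RingHom.id_apply, hγ]
    induction a using DirectSum.Decomposition.inductionOn 𝒜 with
    | zero => simp
    | @homogeneous i a =>
      rw [evalFrac_of_mem 𝒜 hf _ _ a.2, map_mul, hβC, map_pow, hβT, algebraMap_mk_mul_pow]
    | add a b ha hb => rw [map_add, map_add, map_add, ha, hb]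
  have h2 : γ.comp β = RingHom.id _ := by
    have hT : (γ.comp β) (LaurentPolynomial.T 1) = LaurentPolynomial.T 1 := by
      rw [RingHom.comp_apply, hβT, hγ, evalFrac_self]
    have hC : ∀ c, (γ.comp β) (LaurentPolynomial.C c) = LaurentPolynomial.C c := by
      intro c
      obtain ⟨n, a, ha, rfl⟩ := c.mk_surjective 𝒜 hf
      rw [RingHom.comp_apply, hβC]
      have e := congrArg γ (algebraMap_mk_mul_pow 𝒜 hf n a ha)
      rw [map_mul, map_pow, hγ, hγ, evalFrac_self, evalFrac_of_mem 𝒜 hf _ _ (by simpa using ha : a ∈ 𝒜 n)] at e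
      exact ((LaurentPolynomial.isUnit_T (R := Away 𝒜 f) 1).pow n).mul_left_inj.mp e
    refine RingHom.ext fun q => ?_
    induction q using LaurentPolynomial.induction_on with
    | h_C c => exact hC c
    | h_add hp hq => rw [map_add, hp, hq]; rfl
    | h_C_mul_T n c ih =>
      rw [RingHom.id_apply, LaurentPolynomial.T_add, ← mul_assoc, map_mul, ih, hT]
      rfl
    | h_C_mul_T_Z n c ih =>
      rw [RingHom.id_apply] at ih ⊢
      refine (LaurentPolynomial.isUnit_T (R := Away 𝒜 f) 1).mul_left_inj.mp ?_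
      conv_lhs => rw [← hT, ← map_mul]
      rw [mul_assoc, ← LaurentPolynomial.T_add]
      simpa [sub_add_cancel] using ih
  exact ⟨RingEquiv.ofRingHom β γ h1 h2, RingHom.ext hβC⟩

variable {B : Type u} [CommRing B] [Algebra R B] (ℬ : ℕ → Submodule R B) [GradedAlgebra ℬ]
  [Algebra A B] (φ : 𝒜 →+*ᵍ ℬ) (hφ : ∀ a : A, φ a = algebraMap A B a)
  (z : B) (hz : z ∈ ℬ 1) (hhat : Function.Bijective (Polynomial.aeval (R := A) z))

include hf hφ hz hhat in
/-- `A[z]_(f)` is the polynomial ring over `A_(f)`. -/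
theorem exists_polynomial_equiv :
    ∃ e : Polynomial (Away 𝒜 f) ≃+* Away ℬ (φ f), e.toRingHom.comp Polynomial.C = Away.map φ f := by
  have hφf : φ f ∈ ℬ 1 := φ.2 hf
  let τ : Away ℬ (φ f) := Away.mk ℬ hφf 1 z (by simpa using hz)
  let α : Polynomial (Away 𝒜 f) →+* Away ℬ (φ f) := Polynomial.eval₂RingHom (Away.map φ f) τ
  have hαC : ∀ c, α (Polynomial.C c) = Away.map φ f c := fun c => Polynomial.eval₂_C _ _
  let γ₁ : Polynomial A →+* Polynomial (Away 𝒜 f) :=
    Polynomial.mapRingHom (evalFrac 𝒜 hf (RingHom.id _) 1)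
  let eq := RingEquiv.ofBijective (Polynomial.aeval (R := A) z).toRingHom hhat
  let γ₂ : B →+* Polynomial (Away 𝒜 f) := γ₁.comp eq.symm.toRingHom
  have hγA : ∀ a, γ₂ (φ a) = Polynomial.C (evalFrac 𝒜 hf (RingHom.id _) 1 a) := by
    intro a
    have : eq.symm (φ a) = Polynomial.C a := eq.symm_apply_eq.mpr (by simp [eq, hφ])
    show γ₁ (eq.symm (φ a)) = _
    rw [this]
    exact Polynomial.map_C _
  have hγz : γ₂ z = Polynomial.X := by
    have : eq.symm z = Polynomial.X := eq.symm_apply_eq.mpr (by simp [eq])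
    show γ₁ (eq.symm z) = _
    rw [this]
    exact Polynomial.map_X _
  have hγf : γ₂ (φ f) = 1 := by rw [hγA, evalFrac_self, map_one]
  let γL : Localization.Away (φ f) →+* Polynomial (Away 𝒜 f) :=
    IsLocalization.Away.lift (φ f) (g := γ₂) (by rw [hγf]; exact isUnit_one)
  let γ : Away ℬ (φ f) →+* Polynomial (Away 𝒜 f) := γL.comp (algebraMap _ _)
  have hγmk : ∀ (n : ℕ) (b : B) (hb : b ∈ ℬ (n • 1)), γ (Away.mk ℬ hφf n b hb) = γ₂ b := by
    intro n b hb
    have e := congrArg γL (algebraMap_mk_mul_pow ℬ hφf n b hb)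
    rw [map_mul, map_pow, IsLocalization.Away.lift_eq, IsLocalization.Away.lift_eq, hγf, one_pow, mul_one] at e
    exact e
  have h1 : γ.comp α = RingHom.id _ := by
    refine Polynomial.ringHom_ext (fun c => ?_) ?_
    · obtain ⟨n, a, ha, rfl⟩ := c.mk_surjective 𝒜 hf
      rw [RingHom.comp_apply, hαC, RingHom.id_apply, Away.map_mk]
      refine (hγmk n (φ a) _).trans ?_
      rw [hγA, evalFrac_of_mem 𝒜 hf _ _ (by simpa using ha : a ∈ 𝒜 n), one_pow, mul_one]
      rfl
    · rw [RingHom.comp_apply, RingHom.id_apply]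
      show γ (Polynomial.eval₂ _ τ Polynomial.X) = _
      rw [Polynomial.eval₂_X, hγmk, hγz]
  have key : ∀ (p : Polynomial A) (n : ℕ), ∃ q, α q =
      Away.mk ℬ hφf n (DirectSum.decompose ℬ (Polynomial.aeval z p) n).1 (by simp) := by
    intro p n
    induction p using Polynomial.induction_on' with
    | add p q hp hq =>
      obtain ⟨p', hp'⟩ := hp
      obtain ⟨q', hq'⟩ := hq
      refine ⟨p' + q', ?_⟩
      rw [map_add, hp', hq']
      refine val_injective _ ?_
      rw [val_add, Away.val_mk, Away.val_mk, Away.val_mk]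
      simp [DirectSum.decompose_add, Localization.add_mk_self]
    | monomial k a =>
      induction a using DirectSum.Decomposition.inductionOn 𝒜 with
      | zero =>
        refine ⟨0, ?_⟩
        rw [map_zero]
        refine val_injective _ ?_
        rw [val_zero, Away.val_mk]
        simp [Localization.mk_zero]
      | @homogeneous i a =>
        have hm : φ a * z ^ k ∈ ℬ (i + k) := SetLike.mul_mem_graded (φ.2 a.2) (by simpa using SetLike.pow_mem_graded k hz)
        simp only [Polynomial.aeval_monomial, ← hφ]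
        rcases eq_or_ne n (i + k) with rfl | hne
        · refine ⟨Polynomial.C (Away.mk 𝒜 hf i a.1 (by simp)) * Polynomial.X ^ k, ?_⟩
          rw [map_mul, map_pow, hαC, Away.map_mk]
          refine val_injective _ ?_
          rw [val_mul, show α Polynomial.X = τ from Polynomial.eval₂_X _ _, val_pow, Away.val_mk, Away.val_mk,
            Away.val_mk, Localization.mk_pow, Localization.mk_mul, Localization.mk_eq_mk_iff, Localization.r_iff_exists]
          refine ⟨1, ?_⟩
          simp only [DirectSum.decompose_of_mem_same ℬ hm]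
          simp [pow_add]
        · refine ⟨0, ?_⟩
          rw [map_zero]
          refine val_injective _ ?_
          rw [val_zero, Away.val_mk]
          simp only [DirectSum.decompose_of_mem_ne ℬ hm hne.symm]
          exact (Localization.mk_zero _).symm
      | add a b ha hb =>
        obtain ⟨p', hp'⟩ := ha
        obtain ⟨q', hq'⟩ := hb
        refine ⟨p' + q', ?_⟩
        rw [map_add, hp', hq']
        refine val_injective _ ?_
        rw [val_add, Away.val_mk, Away.val_mk, Away.val_mk]
        simp [map_add, DirectSum.decompose_add, Localization.add_mk_self]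
  have hsurj : Function.Surjective α := by
    intro w
    obtain ⟨n, b, hb, rfl⟩ := w.mk_surjective ℬ hφf
    obtain ⟨p, rfl⟩ := hhat.2 b
    obtain ⟨q, hq⟩ := key p n
    refine ⟨q, hq.trans ?_⟩
    congr 1
    exact DirectSum.decompose_of_mem_same ℬ (by simpa using hb)
  have hinj : Function.Injective α := Function.LeftInverse.injective (g := γ) fun q => RingHom.congr_fun h1 q
  exact ⟨RingEquiv.ofBijective α ⟨hinj, hsurj⟩, RingHom.ext hαC⟩

end Groth.Agent.ConeLib
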