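import Mathlib.AlgebraicGeometry.ResidueField
import Mathlib.AlgebraicGeometry.Pullbacks
import Mathlib.Algebra.Polynomial.Laurent
import Mathlib.AlgebraicGeometry.Morphisms.FiniteType

/-!
# Fibres of morphisms that are locally a polynomial or Laurent polynomial ring
-/

set_option autoImplicit false
set_option maxHeartbeats 800000
universe u
open CategoryTheory CategoryTheory.Limits AlgebraicGeometry

set_option backward.isDefEq.respectTransparency false

namespace Groth.Agent.ConeLib

theorem isPushout_polynomial {S K : CommRingCat.{u}} (θ : S ⟶ K) :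
    IsPushout θ (CommRingCat.ofHom (Polynomial.C : S →+* Polynomial S))
      (CommRingCat.ofHom (algebraMap K (Polynomial K))) (CommRingCat.ofHom (Polynomial.mapRingHom θ.hom)) := by
  have sq : CommSq θ (CommRingCat.ofHom (Polynomial.C : S →+* Polynomial S))
      (CommRingCat.ofHom (algebraMap K (Polynomial K))) (CommRingCat.ofHom (Polynomial.mapRingHom θ.hom)) :=
    ⟨CommRingCat.hom_ext (RingHom.ext fun a => by
      simp only [CommRingCat.hom_comp, CommRingCat.hom_ofHom, RingHom.comp_apply, Polynomial.coe_mapRingHom,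
        Polynomial.map_C, Polynomial.algebraMap_apply, Algebra.algebraMap_self, RingHom.id_apply])⟩
  refine IsPushout.of_isColimit (c := PushoutCocone.mk _ _ sq.w) (PushoutCocone.IsColimit.mk _
    (fun s => CommRingCat.ofHom (Polynomial.eval₂RingHom s.inl.hom (s.inr.hom Polynomial.X)))
    (fun s => CommRingCat.hom_ext (RingHom.ext fun a => Polynomial.eval₂_C _ _))
    (fun s => CommRingCat.hom_ext (Polynomial.ringHom_ext (fun a => ?_) ?_))
    (fun s m h1 h2 => CommRingCat.hom_ext (Polynomial.ringHom_ext (fun a => ?_) ?_)))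
  · have := RingHom.congr_fun (congrArg CommRingCat.Hom.hom s.condition) a
    simpa using! this
  · simp
  · have := RingHom.congr_fun (congrArg CommRingCat.Hom.hom h1) a
    simpa using! this
  · have := RingHom.congr_fun (congrArg CommRingCat.Hom.hom h2) Polynomial.X
    simpa using! this

/-- The image of `T` under a ring map, as a unit. -/
noncomputable def unitT {S W : Type u} [CommRing S] [CommRing W] (h : LaurentPolynomial S →+* W) : Wˣ :=
  ((LaurentPolynomial.isUnit_T (1 : ℤ)).map h).unit

theorem laurent_ringHom_ext {S W : Type u} [CommRing S] [CommRing W] (f g : LaurentPolynomial S →+* W)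
    (hC : f.comp LaurentPolynomial.C = g.comp LaurentPolynomial.C)
    (hT : f (LaurentPolynomial.T 1) = g (LaurentPolynomial.T 1)) : f = g := by
  have h : f.comp Polynomial.toLaurent = g.comp Polynomial.toLaurent := by
    refine Polynomial.ringHom_ext (fun a => ?_) ?_
    · simpa using RingHom.congr_fun hC a
    · simpa using hT
  exact IsLocalization.ringHom_ext (Submonoid.powers (Polynomial.X : Polynomial S))
    (RingHom.ext fun q => by
      simpa [LaurentPolynomial.algebraMap_eq_toLaurent] using RingHom.congr_fun h q)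

theorem isPushout_laurent {S K : CommRingCat.{u}} (θ : S ⟶ K) :
    ∃ M : CommRingCat.of (LaurentPolynomial S) ⟶ CommRingCat.of (LaurentPolynomial K),
      IsPushout θ (CommRingCat.ofHom (LaurentPolynomial.C : S →+* LaurentPolynomial S))
        (CommRingCat.ofHom (algebraMap K (LaurentPolynomial K))) M := by
  let M : LaurentPolynomial S →+* LaurentPolynomial K :=
    LaurentPolynomial.eval₂ ((LaurentPolynomial.C).comp θ.hom) (LaurentPolynomial.isUnit_T 1).unit
  have hMC : ∀ a, M (LaurentPolynomial.C a) = LaurentPolynomial.C (θ.hom a) := fun a =>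
    LaurentPolynomial.eval₂_C _ _ a
  have hMT : M (LaurentPolynomial.T 1) = LaurentPolynomial.T 1 := by simp [M]
  have sq : CommSq θ (CommRingCat.ofHom (LaurentPolynomial.C : S →+* LaurentPolynomial S))
      (CommRingCat.ofHom (algebraMap K (LaurentPolynomial K))) (CommRingCat.ofHom M) :=
    ⟨CommRingCat.hom_ext (RingHom.ext fun a => ((hMC a).trans (LaurentPolynomial.C_eq_algebraMap _)).symm)⟩
  refine ⟨CommRingCat.ofHom M, IsPushout.of_isColimit (c := PushoutCocone.mk _ _ sq.w) (PushoutCocone.IsColimit.mk _
    (fun s => CommRingCat.ofHom (LaurentPolynomial.eval₂ s.inl.hom (unitT s.inr.hom)))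
    (fun s => CommRingCat.hom_ext (RingHom.ext fun a => ?_))
    (fun s => CommRingCat.hom_ext (laurent_ringHom_ext _ _ (RingHom.ext fun a => ?_) ?_))
    (fun s m h1 h2 => CommRingCat.hom_ext (laurent_ringHom_ext _ _ (RingHom.ext fun a => ?_) ?_)))⟩
  · show LaurentPolynomial.eval₂ _ _ (algebraMap K (LaurentPolynomial K) a) = _
    rw [← LaurentPolynomial.C_eq_algebraMap, LaurentPolynomial.eval₂_C]
  · show LaurentPolynomial.eval₂ _ _ (M (LaurentPolynomial.C a)) = _
    rw [hMC, LaurentPolynomial.eval₂_C]
    exact RingHom.congr_fun (congrArg CommRingCat.Hom.hom s.condition) a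
  · show LaurentPolynomial.eval₂ _ _ (M (LaurentPolynomial.T 1)) = _
    rw [hMT]
    simp [unitT]
  · show m.hom (LaurentPolynomial.C a) = LaurentPolynomial.eval₂ _ _ (LaurentPolynomial.C a)
    rw [LaurentPolynomial.eval₂_C, LaurentPolynomial.C_eq_algebraMap]
    exact RingHom.congr_fun (congrArg CommRingCat.Hom.hom h1) a
  · show m.hom (LaurentPolynomial.T 1) = LaurentPolynomial.eval₂ _ _ (LaurentPolynomial.T 1)
    rw [← hMT]
    refine (RingHom.congr_fun (congrArg CommRingCat.Hom.hom h2) _).trans ?_
    rw [hMT]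
    simp [unitT]

/-- Being a pushout of the standard chart ring gives the fibre. -/
theorem exists_fibre {X Y : Scheme.{u}} (p : X ⟶ Y) {S B : CommRingCat.{u}} (a : Spec S ⟶ Y) [IsOpenImmersion a]
    (α : S ⟶ B) (c : Spec B ⟶ X) (hsq : IsPullback c (Spec.map α) p a) (x : Y) (hx : x ∈ Set.range a)
    (F : CommRingCat.{u}) (φ : Y.residueField x ⟶ F)
    (hpo : ∀ θ : S ⟶ Y.residueField x, ∃ M : B ⟶ F, IsPushout θ α φ M) :
    ∃ e : pullback p (Y.fromSpecResidueField x) ≅ Spec F,
      e.hom ≫ Spec.map φ = pullback.snd p (Y.fromSpecResidueField x) := by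
  have hr : Set.range (Y.fromSpecResidueField x) ⊆ Set.range a := by
    rw [Scheme.range_fromSpecResidueField]
    simpa using hx
  let θ := Spec.preimage (IsOpenImmersion.lift a (Y.fromSpecResidueField x) hr)
  have hθ : Spec.map θ ≫ a = Y.fromSpecResidueField x := by
    rw [Spec.map_preimage, IsOpenImmersion.lift_fac]
  obtain ⟨M, hM⟩ := hpo θ
  have h2 := (isPullback_SpecMap_of_isPushout _ _ _ _ hM).flip.paste_horiz hsq
  rw [hθ] at h2
  exact ⟨h2.isoPullback.symm, h2.isoPullback_inv_snd⟩

end Groth.Agent.ConeLib
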