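import Groth.Agent.ConeLib.Glue
import Groth.Prelude.Def_PCone
import Mathlib.AlgebraicGeometry.Morphisms.Affine
import Mathlib.AlgebraicGeometry.Morphisms.UnderlyingMap

/-!
# The morphism `G(φ) ⟶ Proj A` of a graded homomorphism
-/

set_option autoImplicit false
set_option maxHeartbeats 800000
universe u
open CategoryTheory CategoryTheory.Limits AlgebraicGeometry TopologicalSpace HomogeneousLocalization

set_option backward.isDefEq.respectTransparency false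

namespace Groth.Agent.ConeLib

variable {R A B : Type u} [CommRing R] [CommRing A] [Algebra R A] {𝒜 : ℕ → Submodule R A} [GradedAlgebra 𝒜]
  [CommRing B] [Algebra R B] {ℬ : ℕ → Submodule R B} [GradedAlgebra ℬ] (φ : 𝒜 →+*ᵍ ℬ)

theorem pchart_ι {d : ℕ} {f : A} (hd : 0 < d) (hf : f ∈ 𝒜 d) :
    PCone.chart φ hf hd ≫ (PCone.dom φ).ι = Proj.awayι ℬ (φ f) (φ.2 hf) hd :=
  IsOpenImmersion.lift_fac _ _ _

instance isOpenImmersion_pchart {d : ℕ} {f : A} (hd : 0 < d) (hf : f ∈ 𝒜 d) :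
    IsOpenImmersion (PCone.chart φ hf hd) := by
  have : IsOpenImmersion (PCone.chart φ hf hd ≫ (PCone.dom φ).ι) := by
    rw [pchart_ι]; infer_instance
  exact IsOpenImmersion.of_comp _ (PCone.dom φ).ι

theorem mem_range_pchart {d : ℕ} {f : A} (hd : 0 < d) (hf : f ∈ 𝒜 d) (x : (PCone.dom φ : Scheme.{u})) :
    x ∈ Set.range (PCone.chart φ hf hd) ↔ x.1 ∈ Proj.basicOpen ℬ (φ f) := by
  rw [← Proj.opensRange_awayι ℬ (φ f) (φ.2 hf) hd]
  constructor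
  · rintro ⟨y, rfl⟩
    exact ⟨y, by rw [← pchart_ι φ hd hf]; rfl⟩
  · rintro ⟨y, hy⟩
    refine ⟨y, (PCone.dom φ).ι.isOpenEmbedding.injective ?_⟩
    show (PCone.chart φ hf hd ≫ (PCone.dom φ).ι) y = x.1
    rw [pchart_ι]
    exact hy

theorem exists_pchart (x : (PCone.dom φ : Scheme.{u})) :
    ∃ (d : ℕ) (f : A) (hd : 0 < d) (hf : f ∈ 𝒜 d), x ∈ Set.range (PCone.chart φ hf hd) := by
  obtain ⟨⟨f, d, hd, hf⟩, hx⟩ := Opens.mem_iSup.mp x.2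
  exact ⟨d, f, hd, hf, (mem_range_pchart φ hd hf x).mpr hx⟩

theorem map_awayMap {d e : ℕ} {f g x : A} (hf : f ∈ 𝒜 d) (hg : g ∈ 𝒜 e) (hx : x = f * g)
    (hx' : φ x = φ f * φ g) :
    (awayMap ℬ (φ.2 hg) hx').comp (Away.map φ f) = (Away.map φ x).comp (awayMap 𝒜 hg hx) := by
  refine RingHom.ext fun z => ?_
  obtain ⟨n, a, ha, rfl⟩ := z.mk_surjective 𝒜 hf
  simp only [RingHom.comp_apply, Away.map_mk, awayMap_mk, map_mul, map_pow]
  rfl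

/-- The morphism `G(φ) ⟶ Proj A`. -/
theorem existsUnique_proj :
    ∃! p : (PCone.dom φ : Scheme.{u}) ⟶ Proj 𝒜,
      ∀ (d : ℕ) (f : A) (hd : 0 < d) (hf : f ∈ 𝒜 d),
        PCone.chart φ hf hd ≫ p =
          Spec.map (CommRingCat.ofHom (Away.map φ f)) ≫ Proj.awayι 𝒜 f hf hd := by
  let I := {i : ℕ × A // 0 < i.1 ∧ i.2 ∈ 𝒜 i.1}
  let a : ∀ i j : I, Spec (CommRingCat.of (Away ℬ (φ (i.1.2 * j.1.2)))) ⟶ Spec (CommRingCat.of (Away ℬ (φ i.1.2))) :=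
    fun i j => Spec.map (CommRingCat.ofHom (awayMap ℬ (φ.2 j.2.2) (map_mul φ i.1.2 j.1.2)))
  let b : ∀ i j : I, Spec (CommRingCat.of (Away ℬ (φ (i.1.2 * j.1.2)))) ⟶ Spec (CommRingCat.of (Away ℬ (φ j.1.2))) :=
    fun i j => Spec.map (CommRingCat.ofHom (awayMap ℬ (φ.2 i.2.2) ((map_mul φ i.1.2 j.1.2).trans (mul_comm _ _))))
  have hfull : ∀ i j : I, a i j ≫ PCone.chart φ i.2.2 i.2.1 =
      PCone.chart φ (SetLike.mul_mem_graded i.2.2 j.2.2) (Nat.add_pos_left i.2.1 _) := fun i j => by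
    rw [← cancel_mono (PCone.dom φ).ι, Category.assoc, pchart_ι, pchart_ι, Proj.SpecMap_awayMap_awayι]
  have hfullb : ∀ i j : I, b i j ≫ PCone.chart φ j.2.2 j.2.1 =
      PCone.chart φ (SetLike.mul_mem_graded i.2.2 j.2.2) (Nat.add_pos_left i.2.1 _) := fun i j => by
    rw [← cancel_mono (PCone.dom φ).ι, Category.assoc, pchart_ι, pchart_ι, Proj.SpecMap_awayMap_awayι]
    rfl
  have : ∀ i j : I, IsOpenImmersion (a i j ≫ PCone.chart φ i.2.2 i.2.1) := fun i j => by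
    rw [hfull]; infer_instance
  obtain ⟨p, hp, hu⟩ := existsUnique_of_charts (fun i : I => Spec (CommRingCat.of (Away ℬ (φ i.1.2))))
    (fun i => PCone.chart φ i.2.2 i.2.1)
    (fun x => by
      obtain ⟨d, f, hd, hf, hx⟩ := exists_pchart φ x
      exact ⟨⟨(d, f), hd, hf⟩, hx⟩)
    _ a b (fun i j => (hfull i j).trans (hfullb i j).symm)
    (fun i j x hx => by
      rw [hfull, mem_range_pchart, map_mul, Proj.basicOpen_mul]
      exact ⟨(mem_range_pchart φ i.2.1 i.2.2 x).mp hx.1, (mem_range_pchart φ j.2.1 j.2.2 x).mp hx.2⟩)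
    (fun i => Spec.map (CommRingCat.ofHom (Away.map φ i.1.2)) ≫ Proj.awayι 𝒜 i.1.2 i.2.2 i.2.1)
    (fun i j => by
      simp only [a, b]
      rw [← Spec.map_comp_assoc, ← Spec.map_comp_assoc, ← CommRingCat.ofHom_comp, ← CommRingCat.ofHom_comp,
        map_awayMap φ i.2.2 j.2.2 rfl, map_awayMap φ j.2.2 i.2.2 (mul_comm i.1.2 j.1.2), CommRingCat.ofHom_comp,
        CommRingCat.ofHom_comp, Spec.map_comp_assoc, Spec.map_comp_assoc,
        Proj.SpecMap_awayMap_awayι, Proj.SpecMap_awayMap_awayι]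
      rfl)
  exact ⟨p, fun d f hd hf => hp ⟨(d, f), hd, hf⟩, fun q hq => hu q fun i => hq i.1.1 i.1.2 i.2.1 i.2.2⟩

section

variable {p : (PCone.dom φ : Scheme.{u}) ⟶ Proj 𝒜}
  (hp : ∀ (d : ℕ) (f : A) (hd : 0 < d) (hf : f ∈ 𝒜 d),
    PCone.chart φ hf hd ≫ p = Spec.map (CommRingCat.ofHom (Away.map φ f)) ≫ Proj.awayι 𝒜 f hf hd)

include hp in
theorem preimage_basicOpen_proj {d : ℕ} {f : A} (hd : 0 < d) (hf : f ∈ 𝒜 d) :
    p ⁻¹ᵁ Proj.basicOpen 𝒜 f = (PCone.dom φ).ι ⁻¹ᵁ Proj.basicOpen ℬ (φ f) := by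
  refine Opens.ext (Set.ext fun x => ?_)
  obtain ⟨e, g, he, hg, y, rfl⟩ := exists_pchart φ x
  have h : PCone.chart φ hg he ⁻¹ᵁ (p ⁻¹ᵁ Proj.basicOpen 𝒜 f) =
      PCone.chart φ hg he ⁻¹ᵁ ((PCone.dom φ).ι ⁻¹ᵁ Proj.basicOpen ℬ (φ f)) := by
    rw [← Scheme.Hom.comp_preimage, ← Scheme.Hom.comp_preimage, hp e g he hg, pchart_ι, Scheme.Hom.comp_preimage,
      Proj.awayι_preimage_basicOpen 𝒜 hg he hf hd]
    refine Eq.trans ?_ (Proj.awayι_preimage_basicOpen ℬ (φ.2 hg) he (φ.2 hf) hd).symm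
    refine Opens.ext (Set.ext fun z => ?_)
    show Away.map φ g (Away.isLocalizationElem hg hf) ∉ z.asIdeal ↔ _
    have e1 : Away.map φ g (Away.isLocalizationElem hg hf) = Away.isLocalizationElem (φ.2 hg) (φ.2 hf) := by
      simp only [Away.isLocalizationElem, Away.map_mk, map_pow]
      rfl
    rw [e1]
    rfl
  exact SetLike.ext_iff.mp h y

include hp in
theorem isAffineHom_proj : IsAffineHom p := by
  refine isAffineHom_of_forall_exists_isAffineOpen p fun y => ?_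
  obtain ⟨d, f, hd, hf, hfy⟩ : ∃ (d : ℕ) (f : A), 0 < d ∧ f ∈ 𝒜 d ∧ f ∉ y.asHomogeneousIdeal.toIdeal := by
    by_contra hc
    push Not at hc
    exact y.not_irrelevant_le ((HomogeneousIdeal.toIdeal_irrelevant_le 𝒜).mpr fun i hi z hz => hc i z hi hz)
  refine ⟨_, hfy, Proj.isAffineOpen_basicOpen 𝒜 f hf hd, ?_⟩
  rw [preimage_basicOpen_proj φ hp hd hf]
  refine (Proj.isAffineOpen_basicOpen ℬ (φ f) (φ.2 hf) hd).preimage_of_isOpenImmersion (PCone.dom φ).ι ?_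
  rw [Scheme.Opens.opensRange_ι]
  exact le_iSup (fun f : {f : A // ∃ d : ℕ, 0 < d ∧ f ∈ 𝒜 d} => Proj.basicOpen ℬ (φ f.1)) ⟨f, d, hd, hf⟩

theorem specMap_awayι_eq {d : ℕ} {f g : A} (hf : f ∈ 𝒜 d) (hg : g ∈ 𝒜 d) (hd : 0 < d) (e : g = f)
    (θ : Away 𝒜 f →+* Away 𝒜 g)
    (hθ : ∀ (n : ℕ) (a : A) (ha : a ∈ 𝒜 (n • d)), θ (Away.mk 𝒜 hf n a ha) = Away.mk 𝒜 hg n a ha) :
    Spec.map (CommRingCat.ofHom θ) ≫ Proj.awayι 𝒜 f hf hd = Proj.awayι 𝒜 g hg hd := by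
  subst e
  have : θ = RingHom.id _ := RingHom.ext fun z => by
    obtain ⟨n, a, ha, rfl⟩ := z.mk_surjective 𝒜 hf
    exact hθ n a ha
  subst this
  rw [CommRingCat.ofHom_id, Spec.map_id, Category.id_comp]

include hp in
theorem exists_section (ψ : ℬ →+*ᵍ 𝒜) (hψφ : ∀ a : A, ψ (φ a) = a)
    (hψ : HomogeneousIdeal.irrelevant 𝒜 ≤ (HomogeneousIdeal.irrelevant ℬ).map ψ) :
    Surjective p ∧ ∃ j : Proj 𝒜 ⟶ (PCone.dom φ : Scheme.{u}),
      j ≫ (PCone.dom φ).ι = Proj.map ψ hψ ∧ j ≫ p = 𝟙 (Proj 𝒜) := by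
  have hrange : Set.range (Proj.map ψ hψ) ⊆ Set.range (PCone.dom φ).ι := by
    rw [Scheme.Opens.range_ι]
    rintro _ ⟨y, rfl⟩
    obtain ⟨d, f, hd, hf, hfy⟩ : ∃ (d : ℕ) (f : A), 0 < d ∧ f ∈ 𝒜 d ∧ f ∉ y.asHomogeneousIdeal.toIdeal := by
      by_contra hc
      push Not at hc
      exact y.not_irrelevant_le ((HomogeneousIdeal.toIdeal_irrelevant_le 𝒜).mpr fun i hi z hz => hc i z hi hz)
    refine Opens.mem_iSup.mpr ⟨⟨f, d, hd, hf⟩, ?_⟩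
    show y ∈ Proj.map ψ hψ ⁻¹ᵁ Proj.basicOpen ℬ (φ f)
    rw [Proj.map_preimage_basicOpen, hψφ]
    exact hfy
  let j := IsOpenImmersion.lift (PCone.dom φ).ι (Proj.map ψ hψ) hrange
  have hj : j ≫ (PCone.dom φ).ι = Proj.map ψ hψ := IsOpenImmersion.lift_fac _ _ _
  have hid : j ≫ p = 𝟙 (Proj 𝒜) := by
    refine (Proj.affineOpenCover 𝒜).openCover.hom_ext _ _ fun s => ?_
    obtain ⟨⟨d, hd⟩, f, hf⟩ := s
    have hf' : ψ (φ f) ∈ 𝒜 d := ψ.2 (φ.2 hf)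
    have key : Proj.awayι 𝒜 (ψ (φ f)) hf' hd ≫ j ≫ p = Proj.awayι 𝒜 (ψ (φ f)) hf' hd := by
      have h1 : Proj.awayι 𝒜 (ψ (φ f)) hf' hd ≫ j =
          Spec.map (CommRingCat.ofHom (Away.map ψ (φ f))) ≫ PCone.chart φ hf hd := by
        rw [← cancel_mono (PCone.dom φ).ι, Category.assoc, hj, Category.assoc, pchart_ι]
        exact Proj.awayι_comp_map ψ hψ hd (φ f) (φ.2 hf)
      rw [reassoc_of% h1, hp d f hd hf, ← Spec.map_comp_assoc, ← CommRingCat.ofHom_comp]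
      refine specMap_awayι_eq hf hf' hd (hψφ f) _ fun n a ha => ?_
      simp only [RingHom.comp_apply, Away.map_mk, hψφ]
    have hc : ∀ (g : A) (e : g = f) (hg : g ∈ 𝒜 d),
        Proj.awayι 𝒜 g hg hd ≫ j ≫ p = Proj.awayι 𝒜 g hg hd → Proj.awayι 𝒜 f hf hd ≫ j ≫ p = Proj.awayι 𝒜 f hf hd := by
      intro g e hg h
      subst e
      exact h
    exact (hc _ (hψφ f) hf' key).trans (Category.comp_id _).symm
  refine ⟨⟨fun y => ⟨j y, ?_⟩⟩, j, hj, hid⟩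
  show (j ≫ p) y = y
  rw [hid]
  rfl

end

end Groth.Agent.ConeLib
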