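import Groth.Agent.ConeLib.Affine
import Groth.Agent.ConeLib.Projective
import Groth.Agent.ConeLib.Fibre
import Groth.Agent.ConeLib.DegOne
import Mathlib.RingTheory.FiniteType

/-!
# The retractions of the pointed cones in the degree one generated case
-/

set_option autoImplicit false
set_option maxHeartbeats 800000
universe u
open CategoryTheory CategoryTheory.Limits AlgebraicGeometry TopologicalSpace HomogeneousLocalization

set_option backward.isDefEq.respectTransparency false

namespace Groth.Agent.ConeLib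

theorem exists_degOne {R A : Type u} [CommRing R] [CommRing A] [Algebra R A] {𝒜 : ℕ → Submodule R A} [GradedAlgebra 𝒜]
    (hgen : (HomogeneousIdeal.irrelevant 𝒜).toIdeal = Ideal.span (𝒜 1 : Set A)) (y : Proj 𝒜) :
    ∃ f : A, f ∈ 𝒜 1 ∧ y ∈ Proj.basicOpen 𝒜 f := by
  by_contra hc
  push Not at hc
  refine y.not_irrelevant_le ?_
  show (HomogeneousIdeal.irrelevant 𝒜).toIdeal ≤ y.asHomogeneousIdeal.toIdeal
  rw [hgen, Ideal.span_le]
  intro f hf
  exact not_not.mp (hc f hf)

/-- Finite type and quasi-compactness from charts. -/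
theorem finiteType_of_charts {X Y : Scheme.{u}} (p : X ⟶ Y) [IsAffineHom p]
    (h : ∀ y : Y, ∃ (S B : CommRingCat.{u}) (a : Spec S ⟶ Y) (_ : IsOpenImmersion a) (α : S ⟶ B) (c : Spec B ⟶ X),
      y ∈ Set.range a ∧ α.hom.FiniteType ∧ IsPullback c (Spec.map α) p a) :
    LocallyOfFiniteType p ∧ QuasiCompact p := by
  refine ⟨?_, inferInstance⟩
  choose S B a ha α c hy hα hsq using h
  let 𝒰 : Y.OpenCover :=
    { I₀ := Y
      X := fun y => Spec (S y)
      f := a
      mem₀ := by
        rw [Scheme.presieve₀_mem_precoverage_iff]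
        exact ⟨fun y => ⟨y, hy y⟩, ha⟩ }
  refine IsZariskiLocalAtTarget.of_openCover 𝒰 fun y => ?_
  show LocallyOfFiniteType (pullback.snd p (a y))
  rw [← (hsq y).isoPullback_inv_snd]
  exact MorphismProperty.comp_mem @LocallyOfFiniteType _ _ inferInstance
    ((HasRingHomProperty.Spec_iff (P := @LocallyOfFiniteType)).mpr (hα y))

variable {R A : Type u} [CommRing R] [CommRing A] [Algebra R A] {𝒜 : ℕ → Submodule R A} [GradedAlgebra 𝒜]
  (hgen : (HomogeneousIdeal.irrelevant 𝒜).toIdeal = Ideal.span (𝒜 1 : Set A))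

include hgen in
theorem affineCone_fibre (π : (Cone.pointed 𝒜 : Scheme.{u}) ⟶ Proj 𝒜)
    (hπ : ∀ (d : ℕ) (f : A) (hd : 0 < d) (hf : f ∈ 𝒜 d),
        Cone.chart hf hd ≫ π =
          Spec.map (CommRingCat.ofHom (algebraMap (Away 𝒜 f) (Localization.Away f))) ≫
            Proj.awayι 𝒜 f hf hd)
    (x : Proj 𝒜) :
    LocallyOfFiniteType π ∧ QuasiCompact π ∧
      ∃ e : pullback π ((Proj 𝒜).fromSpecResidueField x) ≅
          Spec (CommRingCat.of (LaurentPolynomial ((Proj 𝒜).residueField x))),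
        e.hom ≫ Spec.map (CommRingCat.ofHom (algebraMap ((Proj 𝒜).residueField x)
          (LaurentPolynomial ((Proj 𝒜).residueField x)))) = pullback.snd π ((Proj 𝒜).fromSpecResidueField x) := by
  have := isAffineHom hπ
  have hchart : ∀ (f : A) (hf : f ∈ 𝒜 1), ∃ c : Spec (CommRingCat.of (LaurentPolynomial (Away 𝒜 f))) ⟶
      (Cone.pointed 𝒜 : Scheme.{u}), IsPullback c
        (Spec.map (CommRingCat.ofHom (LaurentPolynomial.C : Away 𝒜 f →+* LaurentPolynomial (Away 𝒜 f))))
        π (Proj.awayι 𝒜 f hf one_pos) := by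
    intro f hf
    obtain ⟨e, he⟩ := exists_laurent_equiv 𝒜 hf
    have h0 : IsPullback (Cone.chart hf one_pos)
        (Spec.map (CommRingCat.ofHom (algebraMap (Away 𝒜 f) (Localization.Away f)))) π (Proj.awayι 𝒜 f hf one_pos) := by
      refine (IsOpenImmersion.isPullback _ _ _ _ (hπ 1 f one_pos hf) ?_).flip
      rw [Proj.opensRange_awayι, preimage_basicOpen_eq hπ one_pos hf]
      exact Opens.ext (Set.ext fun z => (mem_range_chart one_pos hf z).symm)
    have heq : CommRingCat.ofHom (algebraMap (Away 𝒜 f) (Localization.Away f)) =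
        CommRingCat.ofHom LaurentPolynomial.C ≫ e.toCommRingCatIso.hom := by
      exact CommRingCat.hom_ext he.symm
    refine ⟨inv (Spec.map e.toCommRingCatIso.hom) ≫ Cone.chart hf one_pos, ?_⟩
    refine h0.of_iso (asIso (Spec.map e.toCommRingCatIso.hom)) (Iso.refl _) (Iso.refl _) (Iso.refl _) ?_ ?_ (by simp) (by simp)
    · simp
    · rw [heq, Spec.map_comp]; simp
  obtain ⟨h1, h2⟩ := finiteType_of_charts π fun y => by
    obtain ⟨f, hf, hy⟩ := exists_degOne hgen y
    obtain ⟨c, hc⟩ := hchart f hf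
    refine ⟨_, _, Proj.awayι 𝒜 f hf one_pos, inferInstance, _, c, ?_, ?_, hc⟩
    · show y ∈ (Proj.awayι 𝒜 f hf one_pos).opensRange
      rwa [Proj.opensRange_awayι]
    · show RingHom.FiniteType LaurentPolynomial.C
      rw [show (LaurentPolynomial.C : Away 𝒜 f →+* LaurentPolynomial (Away 𝒜 f)) = algebraMap _ _ from
        RingHom.ext fun a => LaurentPolynomial.C_eq_algebraMap a]
      exact RingHom.finiteType_algebraMap.mpr inferInstance
  refine ⟨h1, h2, ?_⟩
  obtain ⟨f, hf, hx⟩ := exists_degOne hgen x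
  obtain ⟨c, hc⟩ := hchart f hf
  exact exists_fibre π _ _ c hc x
    (show x ∈ (Proj.awayι 𝒜 f hf one_pos).opensRange by rwa [Proj.opensRange_awayι]) _
    (CommRingCat.ofHom (algebraMap ((Proj 𝒜).residueField x) (LaurentPolynomial ((Proj 𝒜).residueField x))))
    fun θ => isPushout_laurent θ

variable {B : Type u} [CommRing B] [Algebra R B] {ℬ : ℕ → Submodule R B} [GradedAlgebra ℬ] [Algebra A B]
  (φ : 𝒜 →+*ᵍ ℬ) (hφ : ∀ a : A, φ a = algebraMap A B a) (z : B) (hz : z ∈ ℬ 1)
  (hhat : Function.Bijective (Polynomial.aeval (R := A) z))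

include hgen hφ hz hhat in
theorem projCone_fibre (p : (PCone.dom φ : Scheme.{u}) ⟶ Proj 𝒜)
    (hp : ∀ (d : ℕ) (f : A) (hd : 0 < d) (hf : f ∈ 𝒜 d),
        PCone.chart φ hf hd ≫ p = Spec.map (CommRingCat.ofHom (Away.map φ f)) ≫ Proj.awayι 𝒜 f hf hd)
    (x : Proj 𝒜) :
    LocallyOfFiniteType p ∧ QuasiCompact p ∧
      ∃ e : pullback p ((Proj 𝒜).fromSpecResidueField x) ≅
          Spec (CommRingCat.of (Polynomial ((Proj 𝒜).residueField x))),
        e.hom ≫ Spec.map (CommRingCat.ofHom (algebraMap ((Proj 𝒜).residueField x)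
          (Polynomial ((Proj 𝒜).residueField x)))) = pullback.snd p ((Proj 𝒜).fromSpecResidueField x) := by
  have := isAffineHom_proj φ hp
  have hchart : ∀ (f : A) (hf : f ∈ 𝒜 1), ∃ c : Spec (CommRingCat.of (Polynomial (Away 𝒜 f))) ⟶
      (PCone.dom φ : Scheme.{u}), IsPullback c
        (Spec.map (CommRingCat.ofHom (Polynomial.C : Away 𝒜 f →+* Polynomial (Away 𝒜 f))))
        p (Proj.awayι 𝒜 f hf one_pos) := by
    intro f hf
    obtain ⟨e, he⟩ := exists_polynomial_equiv 𝒜 hf ℬ φ hφ z hz hhat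
    have h0 : IsPullback (PCone.chart φ hf one_pos)
        (Spec.map (CommRingCat.ofHom (Away.map φ f))) p (Proj.awayι 𝒜 f hf one_pos) := by
      refine (IsOpenImmersion.isPullback _ _ _ _ (hp 1 f one_pos hf) ?_).flip
      rw [Proj.opensRange_awayι, preimage_basicOpen_proj φ hp one_pos hf]
      exact Opens.ext (Set.ext fun w => (mem_range_pchart φ one_pos hf w).symm)
    have heq : CommRingCat.ofHom (Away.map φ f) =
        CommRingCat.ofHom Polynomial.C ≫ e.toCommRingCatIso.hom := by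
      exact CommRingCat.hom_ext he.symm
    refine ⟨inv (Spec.map e.toCommRingCatIso.hom) ≫ PCone.chart φ hf one_pos, ?_⟩
    refine h0.of_iso (asIso (Spec.map e.toCommRingCatIso.hom)) (Iso.refl _) (Iso.refl _) (Iso.refl _) ?_ ?_ (by simp) (by simp)
    · simp
    · rw [heq, Spec.map_comp]; simp
  obtain ⟨h1, h2⟩ := finiteType_of_charts p fun y => by
    obtain ⟨f, hf, hy⟩ := exists_degOne hgen y
    obtain ⟨c, hc⟩ := hchart f hf
    refine ⟨_, _, Proj.awayι 𝒜 f hf one_pos, inferInstance, _, c, ?_, ?_, hc⟩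
    · show y ∈ (Proj.awayι 𝒜 f hf one_pos).opensRange
      rwa [Proj.opensRange_awayι]
    · exact RingHom.finiteType_algebraMap.mpr (inferInstance : Algebra.FiniteType (Away 𝒜 f) (Polynomial (Away 𝒜 f)))
  refine ⟨h1, h2, ?_⟩
  obtain ⟨f, hf, hx⟩ := exists_degOne hgen x
  obtain ⟨c, hc⟩ := hchart f hf
  exact exists_fibre p _ _ c hc x
    (show x ∈ (Proj.awayι 𝒜 f hf one_pos).opensRange by rwa [Proj.opensRange_awayι]) _
    (CommRingCat.ofHom (algebraMap ((Proj 𝒜).residueField x) (Polynomial ((Proj 𝒜).residueField x))))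
    fun θ => ⟨_, isPushout_polynomial θ⟩

end Groth.Agent.ConeLib
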