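import Mathlib.AlgebraicGeometry.OpenImmersion
import Mathlib.AlgebraicGeometry.Gluing

/-!
# Gluing a morphism along affine charts with given double charts
-/

set_option autoImplicit false
universe u v
open CategoryTheory CategoryTheory.Limits AlgebraicGeometry

namespace Groth.Agent.ConeLib

/-- A morphism given on jointly surjective open immersions, compatible on charts of the overlaps. -/
theorem existsUnique_of_charts {X T : Scheme.{u}} {ι : Type u} (Y : ι → Scheme.{u}) (c : ∀ i, Y i ⟶ X)
    [∀ i, IsOpenImmersion (c i)] (hcov : ∀ x : X, ∃ i, x ∈ Set.range (c i))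
    (W : ι → ι → Scheme.{u}) (a : ∀ i j, W i j ⟶ Y i) (b : ∀ i j, W i j ⟶ Y j)
    (hab : ∀ i j, a i j ≫ c i = b i j ≫ c j) [∀ i j, IsOpenImmersion (a i j ≫ c i)]
    (hrange : ∀ i j, Set.range (c i) ∩ Set.range (c j) ⊆ Set.range (a i j ≫ c i))
    (m : ∀ i, Y i ⟶ T) (hm : ∀ i j, a i j ≫ m i = b i j ≫ m j) :
    ∃! p : X ⟶ T, ∀ i, c i ≫ p = m i := by
  choose idx hidx using hcov
  let 𝒰 : X.OpenCover :=
    { I₀ := ι
      X := Y
      f := c
      mem₀ := by
        rw [Scheme.presieve₀_mem_precoverage_iff]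
        exact ⟨fun x => ⟨idx x, hidx x⟩, inferInstance⟩ }
  have hcomp : ∀ i j : ι, pullback.fst (c i) (c j) ≫ m i = pullback.snd (c i) (c j) ≫ m j := by
    intro i j
    have hsub : Set.range (pullback.fst (c i) (c j) ≫ c i) ⊆ Set.range (a i j ≫ c i) := by
      rw [IsOpenImmersion.range_pullback_to_base_of_left]
      exact hrange i j
    let l := IsOpenImmersion.lift (a i j ≫ c i) (pullback.fst (c i) (c j) ≫ c i) hsub
    have hl : l ≫ a i j ≫ c i = pullback.fst (c i) (c j) ≫ c i := IsOpenImmersion.lift_fac _ _ _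
    have ha : l ≫ a i j = pullback.fst (c i) (c j) := by
      rw [← cancel_mono (c i), Category.assoc, hl]
    have hb : l ≫ b i j = pullback.snd (c i) (c j) := by
      rw [← cancel_mono (c j), Category.assoc, ← hab, hl, pullback.condition]
    rw [← ha, ← hb, Category.assoc, Category.assoc, hm]
  exact ⟨𝒰.glueMorphisms m hcomp, fun i => 𝒰.ι_glueMorphisms m hcomp i,
    fun p hp => Scheme.Cover.hom_ext 𝒰 _ _ fun i => (hp i).trans (𝒰.ι_glueMorphisms m hcomp i).symm⟩

end Groth.Agent.ConeLib
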